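import Mathlib.Algebra.Category.ModuleCat.Abelian
import Mathlib.Algebra.Homology.ShortComplex.ModuleCat
import Mathlib.RingTheory.LocalRing.ResidueField.Ideal
import Mathlib.RingTheory.Noetherian.Basic
import Mathlib.RingTheory.Localization.Finiteness
import Mathlib.Algebra.Module.LocalizedModule.Basic
import Mathlib.RingTheory.Localization.AtPrime.Basic
import Mathlib.LinearAlgebra.FiniteDimensional.Defs
import Mathlib.Algebra.Module.Torsion.Basic
import Mathlib.LinearAlgebra.Pi

set_option autoImplicit false
universe u
open CategoryTheory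

namespace Groth.Agent.ResProp.EF.K66

variable {A : Type u} [CommRing A]

/-- Closure properties of a class of modules used in the Noetherian induction of helper935's C4. -/
structure Dev (S : ModuleCat.{u} A → Prop) : Prop where
  iso : ∀ {M N : ModuleCat.{u} A}, (M ≅ N) → S M → S N
  zero : ∀ M : ModuleCat.{u} A, Subsingleton M → S M
  mid : ∀ X : ShortComplex (ModuleCat.{u} A), X.ShortExact → S X.X₁ → S X.X₃ → S X.X₂
  left : ∀ X : ShortComplex (ModuleCat.{u} A), X.ShortExact → S X.X₂ → S X.X₃ → S X.X₁
  dir : ∀ M : ModuleCat.{u} A, (∀ N : Submodule A M, N.FG → S (ModuleCat.of A N)) → S M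
  fields : ∀ (q : Ideal A) [q.IsPrime], S (ModuleCat.of A q.ResidueField)

namespace Dev

variable {S : ModuleCat.{u} A → Prop} (h : Dev S)
include h

theorem ofEquiv {M N : Type u} [AddCommGroup M] [Module A M] [AddCommGroup N] [Module A N]
    (e : M ≃ₗ[A] N) (hM : S (ModuleCat.of A M)) : S (ModuleCat.of A N) :=
  h.iso e.toModuleIso hM

theorem ofExt {M : Type u} [AddCommGroup M] [Module A M] (N : Submodule A M)
    (hN : S (ModuleCat.of A N)) (hQ : S (ModuleCat.of A (M ⧸ N))) : S (ModuleCat.of A M) := by
  let X : ShortComplex (ModuleCat.{u} A) :=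
    ShortComplex.mk (ModuleCat.ofHom N.subtype) (ModuleCat.ofHom N.mkQ) (by
      ext x; simp)
  have hX : X.ShortExact := by
    refine ShortComplex.ShortExact.mk' ?_ ?_ ?_
    · rw [ShortComplex.moduleCat_exact_iff]
      intro x hx
      exact ⟨⟨x, (Submodule.Quotient.mk_eq_zero N).1 hx⟩, rfl⟩
    · exact (ModuleCat.mono_iff_injective _).2 N.subtype_injective
    · exact (ModuleCat.epi_iff_surjective _).2 N.mkQ_surjective
  exact h.mid X hX hN hQ

theorem ofSub {M : Type u} [AddCommGroup M] [Module A M] (N : Submodule A M)
    (hM : S (ModuleCat.of A M)) (hQ : S (ModuleCat.of A (M ⧸ N))) : S (ModuleCat.of A N) := by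
  let X : ShortComplex (ModuleCat.{u} A) :=
    ShortComplex.mk (ModuleCat.ofHom N.subtype) (ModuleCat.ofHom N.mkQ) (by
      ext x; simp)
  have hX : X.ShortExact := by
    refine ShortComplex.ShortExact.mk' ?_ ?_ ?_
    · rw [ShortComplex.moduleCat_exact_iff]
      intro x hx
      exact ⟨⟨x, (Submodule.Quotient.mk_eq_zero N).1 hx⟩, rfl⟩
    · exact (ModuleCat.mono_iff_injective _).2 N.subtype_injective
    · exact (ModuleCat.epi_iff_surjective _).2 N.mkQ_surjective
  exact h.left X hX hM hQ

theorem ofMap {M N : Type u} [AddCommGroup M] [Module A M] [AddCommGroup N] [Module A N]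
    (f : M →ₗ[A] N) (hK : S (ModuleCat.of A (LinearMap.ker f)))
    (hR : S (ModuleCat.of A (LinearMap.range f))) : S (ModuleCat.of A M) :=
  h.ofExt (LinearMap.ker f) hK (h.ofEquiv f.quotKerEquivRange.symm hR)

theorem prod {M N : Type u} [AddCommGroup M] [Module A M] [AddCommGroup N] [Module A N]
    (hM : S (ModuleCat.of A M)) (hN : S (ModuleCat.of A N)) : S (ModuleCat.of A (M × N)) := by
  refine h.ofMap (LinearMap.snd A M N) ?_ ?_
  · refine h.ofEquiv ?_ hM
    exact (LinearEquiv.ofInjective (LinearMap.inl A M N) LinearMap.inl_injective).trans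
      (LinearEquiv.ofEq _ _ (LinearMap.range_inl A M N))
  · exact h.ofEquiv ((LinearEquiv.ofTop _ (LinearMap.range_eq_top.2
      (fun n => ⟨(0, n), rfl⟩))).symm) hN

theorem pi {M : Type u} [AddCommGroup M] [Module A M] (hM : S (ModuleCat.of A M)) (n : ℕ) :
    S (ModuleCat.of A (Fin n → M)) := by
  induction n with
  | zero => exact h.zero _ (inferInstanceAs (Subsingleton (Fin 0 → M)))
  | succ n ih => exact h.ofEquiv (Fin.consLinearEquiv A (fun _ : Fin (n + 1) => M)) (h.prod hM ih)

end Dev

/-- For a finitely generated module `M` killed by the prime `q` the localization `M_q` is, as an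
`A`-module, a finite power of the residue field. -/
theorem exists_pi_equiv_localized (q : Ideal A) [q.IsPrime] (M : Type u) [AddCommGroup M]
    [Module A M] [Module.Finite A M] (hq : ∀ a ∈ q, ∀ m : M, a • m = 0) :
    ∃ n : ℕ, Nonempty ((Fin n → q.ResidueField) ≃ₗ[A] LocalizedModule q.primeCompl M) := by
  let R := Localization.AtPrime q
  let V := LocalizedModule q.primeCompl M
  have ht : Module.IsTorsionBySet R V (IsLocalRing.maximalIdeal R) := by
    intro v ⟨r, hr⟩
    change r • v = 0
    rw [← Localization.AtPrime.map_eq_maximalIdeal] at hr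
    induction hr using Submodule.span_induction with
    | mem x hx =>
      obtain ⟨a, ha, rfl⟩ := hx
      induction v using LocalizedModule.induction_on with
      | h m s =>
        rw [algebraMap_smul, LocalizedModule.smul'_mk, hq a ha m, LocalizedModule.zero_mk]
    | zero => rw [zero_smul]
    | add x y _ _ hx hy => rw [add_smul, hx, hy, add_zero]
    | smul c x _ hx => rw [smul_eq_mul, mul_smul, hx, smul_zero]
  let m0 : Module (R ⧸ IsLocalRing.maximalIdeal R) V := ht.module
  let m1 : Module (IsLocalRing.ResidueField R) V := m0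
  have htow : ∀ (a : A) (v : V), (algebraMap A q.ResidueField a) • v = a • v := by
    intro a v
    change (Ideal.Quotient.mk (IsLocalRing.maximalIdeal R) (algebraMap A R a)) • v = a • v
    rw [Module.IsTorsionBySet.mk_smul, algebraMap_smul]
  have : Module.Finite R V := inferInstanceAs (Module.Finite (Localization q.primeCompl) _)
  have : IsScalarTower R (IsLocalRing.ResidueField R) V := by
    refine ⟨fun r x v => ?_⟩
    obtain ⟨y, rfl⟩ := Ideal.Quotient.mk_surjective x
    exact mul_smul r y v
  have : Module.Finite (IsLocalRing.ResidueField R) V :=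
    Module.Finite.of_restrictScalars_finite R _ V
  let e := (Module.finBasis (IsLocalRing.ResidueField R) V).equivFun.symm
  refine ⟨_, ⟨{ e.toAddEquiv with map_smul' := ?_ }⟩⟩
  intro a f
  change e (a • f) = a • e f
  have : a • f = (algebraMap A q.ResidueField a) • f := by
    ext i; simp [Algebra.smul_def]
  rw [this]
  exact (e.map_smul _ f).trans (htow a _)

namespace Dev

variable {S : ModuleCat.{u} A → Prop} (h : Dev S)
include h

/-- The step of the Noetherian induction at a prime. -/
theorem prime_step [IsNoetherianRing A] (q : Ideal A) [q.IsPrime]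
    (ih : ∀ J : Ideal A, q < J → ∀ (M : Type u) [AddCommGroup M] [Module A M] [Module.Finite A M],
      (∀ a ∈ J, ∀ m : M, a • m = 0) → S (ModuleCat.of A M))
    (M : Type u) [AddCommGroup M] [Module A M] [Module.Finite A M]
    (hq : ∀ a ∈ q, ∀ m : M, a • m = 0) : S (ModuleCat.of A M) := by
  -- torsion finitely generated modules
  have tors : ∀ (N : Type u) [AddCommGroup N] [Module A N] [Module.Finite A N],
      (∀ a ∈ q, ∀ m : N, a • m = 0) → (∀ m : N, ∃ s : A, s ∉ q ∧ s • m = 0) →
      S (ModuleCat.of A N) := by
    intro N _ _ _ hqN hs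
    obtain ⟨T, hT⟩ := ‹Module.Finite A N›
    choose s hs1 hs2 using hs
    let t : A := ∏ m ∈ T, s m
    have ht : t ∉ q := by
      intro hmem
      obtain ⟨m, _, hm⟩ := (Ideal.IsPrime.prod_mem_iff).1 hmem
      exact hs1 m hm
    have htN : ∀ m : N, t • m = 0 := by
      intro m
      have : m ∈ Submodule.span A (T : Set N) := by rw [hT]; trivial
      induction this using Submodule.span_induction with
      | mem x hx =>
        obtain ⟨c, hc⟩ := Finset.dvd_prod_of_mem s (show x ∈ T from hx)
        change (∏ m ∈ T, s m) • x = 0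
        rw [hc, mul_comm, mul_smul, hs2, smul_zero]
      | zero => exact smul_zero _
      | add x y _ _ hx hy => rw [smul_add, hx, hy, add_zero]
      | smul c x _ hx => rw [smul_comm, hx, smul_zero]
    refine ih (q ⊔ Ideal.span {t}) ?_ N ?_
    · refine lt_of_le_of_ne le_sup_left fun he => ht ?_
      rw [he]
      exact Submodule.mem_sup_right (Ideal.mem_span_singleton_self t)
    · intro a ha m
      obtain ⟨x, hx, y, hy, rfl⟩ := Submodule.mem_sup.1 ha
      obtain ⟨c, rfl⟩ := Ideal.mem_span_singleton.1 hy
      rw [add_smul, hqN x hx, zero_add, mul_comm, mul_smul, htN, smul_zero]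
  let f := LocalizedModule.mkLinearMap q.primeCompl M
  have : IsNoetherian A M := inferInstance
  refine h.ofMap f ?_ ?_
  · refine tors _ (fun a ha m => Subtype.ext (hq a ha m)) ?_
    rintro ⟨m, hm⟩
    obtain ⟨s, hs⟩ := (IsLocalizedModule.eq_zero_iff q.primeCompl f).1 hm
    exact ⟨s, s.2, Subtype.ext hs⟩
  · refine h.ofSub (LinearMap.range f) ?_ ?_
    · obtain ⟨n, ⟨e⟩⟩ := exists_pi_equiv_localized q M hq
      exact h.ofEquiv e (h.pi (h.fields q) n)
    · refine h.dir _ fun N hN => ?_
      have : Module.Finite A N := Module.Finite.iff_fg.2 hN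
      refine tors N ?_ ?_
      · rintro a ha ⟨m, hm⟩
        refine Subtype.ext ?_
        change a • m = 0
        obtain ⟨v, rfl⟩ := Submodule.Quotient.mk_surjective _ m
        rw [← Submodule.Quotient.mk_smul]
        have : a • v = 0 := by
          induction v using LocalizedModule.induction_on with
          | h x s => rw [LocalizedModule.smul'_mk, hq a ha x, LocalizedModule.zero_mk]
        rw [this, Submodule.Quotient.mk_zero]
      · rintro ⟨m, hm⟩
        obtain ⟨v, rfl⟩ := Submodule.Quotient.mk_surjective _ m
        obtain ⟨⟨x, s⟩, hx⟩ := IsLocalizedModule.surj q.primeCompl f v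
        refine ⟨s, s.2, Subtype.ext ?_⟩
        change (s : A) • Submodule.Quotient.mk v = 0
        rw [← Submodule.Quotient.mk_smul, Submodule.Quotient.mk_eq_zero]
        exact ⟨x, hx.symm⟩

/-- All finitely generated modules. -/
theorem of_finite [IsNoetherianRing A] (M : Type u) [AddCommGroup M] [Module A M]
    [Module.Finite A M] : S (ModuleCat.of A M) := by
  suffices H : ∀ I : Ideal A, ∀ (M : Type u) [AddCommGroup M] [Module A M] [Module.Finite A M],
      (∀ a ∈ I, ∀ m : M, a • m = 0) → S (ModuleCat.of A M) from
    H ⊥ M (fun a ha m => by rw [(Submodule.mem_bot A).1 ha, zero_smul])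
  intro I
  induction I using WellFoundedGT.induction with
  | ind I ih =>
    intro M _ _ _ hI
    by_cases hp : Ideal.IsPrime I
    · exact h.prime_step I ih M hI
    · rcases Ideal.not_isPrime_iff.1 hp with rfl | ⟨a, ha, b, hb, hab⟩
      · refine h.zero _ ⟨fun x y => ?_⟩
        have := hI 1 trivial
        simp only [one_smul] at this
        rw [this x, this y]
      · have : IsNoetherian A M := inferInstance
        refine h.ofExt (LinearMap.range (a • (LinearMap.id : M →ₗ[A] M))) ?_ ?_
        · refine ih (I ⊔ Ideal.span {b}) ?_ _ ?_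
          · refine lt_of_le_of_ne le_sup_left fun he => hb ?_
            rw [he]
            exact Submodule.mem_sup_right (Ideal.mem_span_singleton_self b)
          · rintro c hc ⟨_, m, rfl⟩
            refine Subtype.ext ?_
            change c • a • m = 0
            obtain ⟨x, hx, y, hy, rfl⟩ := Submodule.mem_sup.1 hc
            obtain ⟨d, rfl⟩ := Ideal.mem_span_singleton.1 hy
            rw [add_smul, hI x hx, zero_add, smul_smul,
              show b * d * a = d * (a * b) by ring, mul_smul, hI _ hab, smul_zero]
        · refine ih (I ⊔ Ideal.span {a}) ?_ _ ?_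
          · refine lt_of_le_of_ne le_sup_left fun he => ha ?_
            rw [he]
            exact Submodule.mem_sup_right (Ideal.mem_span_singleton_self a)
          · intro c hc m
            obtain ⟨v, rfl⟩ := Submodule.Quotient.mk_surjective _ m
            obtain ⟨x, hx, y, hy, rfl⟩ := Submodule.mem_sup.1 hc
            obtain ⟨d, rfl⟩ := Ideal.mem_span_singleton.1 hy
            rw [← Submodule.Quotient.mk_smul, Submodule.Quotient.mk_eq_zero, add_smul, hI x hx,
              zero_add]
            exact ⟨d • v, by simp [mul_smul, smul_comm a d v]⟩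

/-- **C4.** A class with the closure properties of `Dev` contains every module. -/
theorem all [IsNoetherianRing A] (M : ModuleCat.{u} A) : S M := by
  refine h.dir M fun N hN => ?_
  have : Module.Finite A N := Module.Finite.iff_fg.2 hN
  exact h.of_finite N

end Dev

end Groth.Agent.ResProp.EF.K66
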