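import Groth.Agent.ResProp.EF.K294.Defs
import Groth.Agent.CohDer.K235.KProjLift
import Mathlib.LinearAlgebra.Basis.VectorSpace

/-!
# Fibres of bounded above complexes of projective modules (S16912, formal end, node C3)

* `exists_split`: a homology class of `N ⊗ k` (`k` an `A`-algebra which is a field) gives
  `k[-j] ⟶ N ⊗ k ⟶ k[-j]` with composition the identity;
* `exists_retract`: if `N`, `L` are bounded above complexes of projective modules, `L ⟶ k` a resolution and
  `N ⊗ k` is not exact in degree `j`, then `L⟦-j⟧` is a retract of `N ⊗ L` up to homotopy;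
* `exists_free`: bounded above complexes have bounded above projective resolutions.
-/

set_option autoImplicit false
set_option backward.defeqAttrib.useBackward true
set_option backward.isDefEq.respectTransparency false

universe u

open CategoryTheory CategoryTheory.Limits MonoidalCategory HomologicalComplex TensorProduct

namespace Groth.Agent.ResProp.EF.K66.Fib

open Groth.Agent.PerfB.RingKFlat Groth.Agent.Dcoh.KFlatAbs Groth.Agent.Dcoh.KFlatSingle Groth.Agent.Dcoh.CxFun
  Groth.Agent.ResProp.EF.K294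

section Linear

variable {A : Type u} [CommRing A] {k : Type u} [Field k] [Algebra A k]
variable {M₁ M₂ M₃ : Type u} [AddCommGroup M₁] [AddCommGroup M₂] [AddCommGroup M₃]
  [Module A M₁] [Module A M₂] [Module A M₃]

/-- a homology class of `k ⊗ M` splits off as a copy of `k`. -/
theorem exists_split_left (d₁ : M₁ →ₗ[A] M₂) (d₂ : M₂ →ₗ[A] M₃) (h0 : d₂ ∘ₗ d₁ = 0)
    (hne : ¬ Function.Exact (d₁.baseChange k) (d₂.baseChange k)) :
    ∃ (f : k →ₗ[k] k ⊗[A] M₂) (g : k ⊗[A] M₂ →ₗ[k] k), g ∘ₗ f = LinearMap.id ∧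
      (d₂.baseChange k) ∘ₗ f = 0 ∧ g ∘ₗ (d₁.baseChange k) = 0 := by
  have h0' : (d₂.baseChange k) ∘ₗ (d₁.baseChange k) = 0 := by
    rw [← LinearMap.baseChange_comp, h0, LinearMap.baseChange_zero]
  have hx : ∃ v, (d₂.baseChange k) v = 0 ∧ v ∉ LinearMap.range (d₁.baseChange k) := by
    by_contra hcon
    push Not at hcon
    refine hne fun v => ⟨fun hv => ?_, ?_⟩
    · obtain ⟨w, hw⟩ := hcon v hv
      exact ⟨w, hw⟩
    · rintro ⟨w, rfl⟩
      exact congr($h0' w)
  obtain ⟨v, hv0, hv⟩ := hx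
  obtain ⟨φ, hφv, hφ⟩ := Submodule.exists_le_ker_of_notMem hv
  refine ⟨LinearMap.toSpanSingleton k _ ((φ v)⁻¹ • v), φ, ?_, ?_, ?_⟩
  · ext
    simp [hφv]
  · ext
    simp [hv0]
  · ext x
    simpa using hφ ⟨1 ⊗ₜ x, rfl⟩

/-- the same for `M ⊗ k`, over `A`. -/
theorem exists_split_right (d₁ : M₁ →ₗ[A] M₂) (d₂ : M₂ →ₗ[A] M₃) (h0 : d₂ ∘ₗ d₁ = 0)
    (hne : ¬ Function.Exact (d₁.rTensor k) (d₂.rTensor k)) :
    ∃ (f : k →ₗ[A] M₂ ⊗[A] k) (g : M₂ ⊗[A] k →ₗ[A] k), g ∘ₗ f = LinearMap.id ∧
      (d₂.rTensor k) ∘ₗ f = 0 ∧ g ∘ₗ (d₁.rTensor k) = 0 := by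
  obtain ⟨f, g, h1, h2, h3⟩ := exists_split_left (k := k) d₁ d₂ h0 (by
    intro hex
    apply hne
    have hex' : Function.Exact (d₁.lTensor k) (d₂.lTensor k) := hex
    have e1 : d₁.rTensor k ∘ₗ (TensorProduct.comm A k M₁).toLinearMap =
        (TensorProduct.comm A k M₂).toLinearMap ∘ₗ d₁.lTensor k := by
      ext; simp
    have e2 : d₂.rTensor k ∘ₗ (TensorProduct.comm A k M₂).toLinearMap =
        (TensorProduct.comm A k M₃).toLinearMap ∘ₗ d₂.lTensor k := by
      ext; simp
    exact (Function.Exact.iff_of_ladder_linearEquiv e1 e2).2 hex')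
  refine ⟨(TensorProduct.comm A k M₂).toLinearMap ∘ₗ f.restrictScalars A,
    g.restrictScalars A ∘ₗ (TensorProduct.comm A M₂ k).toLinearMap, ?_, ?_, ?_⟩
  · ext x
    have := congr($h1 x)
    simpa using this
  · ext x
    have := congr((TensorProduct.comm A k M₃) ($h2 x))
    have e2 : ∀ y, (d₂.rTensor k) (TensorProduct.comm A k M₂ y) =
      TensorProduct.comm A k M₃ (d₂.baseChange k y) := by
      intro y
      induction y using TensorProduct.induction_on with
      | zero => simp
      | add a b ha hb => simp only [map_add, ha, hb]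
      | tmul a b => simp
    simp only [LinearMap.comp_apply, LinearEquiv.coe_coe, LinearMap.restrictScalars_apply, LinearMap.zero_apply]
    rw [e2]
    simpa using this
  · ext x y
    have := congr($h3 (y ⊗ₜ x))
    simpa using this

end Linear

section Lift

variable {C : Type*} [Category* C] [Abelian C]

open DerivedCategory in
attribute [local instance] HasDerivedCategory.standard in
/-- uniqueness of lifts from K-projective complexes along quasi-isomorphisms. -/
lemma homotopy_of_comp {P K L : CochainComplex C ℤ} [P.IsKProjective] (s : K ⟶ L) [QuasiIso s] (f g : P ⟶ K)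
    (h : Homotopy (f ≫ s) (g ≫ s)) : Nonempty (Homotopy f g) := by
  refine ⟨HomotopyCategory.homotopyOfEq _ _ ?_⟩
  apply (CochainComplex.IsKProjective.Qh_map_bijective P _).injective
  have h1 := HomotopyCategory.eq_of_homotopy _ _ h
  rw [Functor.map_comp, Functor.map_comp] at h1
  have h2 := congrArg (Qh.map) h1
  rw [Functor.map_comp, Functor.map_comp] at h2
  have : IsIso (Qh.map ((HomotopyCategory.quotient C (ComplexShape.up ℤ)).map s)) := by
    have h3 : IsIso (Q.map s) := inferInstance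
    exact (NatIso.isIso_map_iff (quotientCompQhIso C) s).2 h3
  exact (cancel_mono _).1 h2

end Lift

section Cx

variable {A : Type u} [CommRing A]

/-- the terms of `N ⊗ L` are projective. -/
lemma projective_tens (N L : CM A) (hN : ∀ n, Projective (N.X n)) (hL : ∀ n, Projective (L.X n)) (n : ℤ) :
    Projective ((tens N L).X n) := by
  have hPQ : ∀ p q : ℤ, Projective (((TR A).obj (N.X p)).obj (L.X q)) := by
    intro p q
    have := hN p
    have := hL q
    have h1 : Module.Projective A (N.X p) := inferInstance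
    have h2 : Module.Projective A (L.X q) := inferInstance
    have h3 : Module.Projective A (N.X p ⊗[A] L.X q) := inferInstance
    exact inferInstanceAs (Projective (ModuleCat.of A (N.X p ⊗[A] L.X q)))
  refine ⟨fun {E X} f e _ => ?_⟩
  refine ⟨mapBifunctorDesc (K₁ := N) (K₂ := L) (F := TR A) (c := ComplexShape.up ℤ)
    (fun p q h => Projective.factorThru (ιMapBifunctor N L (TR A) (ComplexShape.up ℤ) p q n h ≫ f) e), ?_⟩
  refine mapBifunctor.hom_ext (fun p q h => ?_)
  rw [ι_mapBifunctorDesc_assoc]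
  simp

/-- `N ⊗ L` is bounded above. -/
lemma isStrictlyLE_tens (N L : CM A) (a b : ℤ) [N.IsStrictlyLE a] [L.IsStrictlyLE b] :
    (tens N L).IsStrictlyLE (a + b) := by
  rw [CochainComplex.isStrictlyLE_iff]
  intro n hn
  rw [IsZero.iff_id_eq_zero]
  refine mapBifunctor.hom_ext (fun p q h => ?_)
  refine IsZero.eq_of_src ?_ _ _
  have h : p + q = n := h
  by_cases hp : a < p
  · exact Functor.map_isZero ((TR A).flip.obj (L.X q)) (N.isZero_of_isStrictlyLE a p hp)
  · exact Functor.map_isZero ((TR A).obj (N.X p)) (L.isZero_of_isStrictlyLE b q (by omega))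

lemma isKProjective_tens (N L : CM A) (a b : ℤ) [N.IsStrictlyLE a] [L.IsStrictlyLE b]
    (hN : ∀ n, Projective (N.X n)) (hL : ∀ n, Projective (L.X n)) : (tens N L).IsKProjective := by
  have := projective_tens N L hN hL
  have := isStrictlyLE_tens N L a b
  exact CochainComplex.isKProjective_of_projective _ (a + b)

/-- `N ⊗ -` preserves quasi-isomorphisms for `N` bounded above projective. -/
lemma quasiIso_tens (N : CM A) (a : ℤ) [N.IsStrictlyLE a] (hN : ∀ n, Projective (N.X n)) {K L : CM A}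
    (f : K ⟶ L) [QuasiIso f] : QuasiIso (((TR A).map₂CochainComplex.obj N).map f) := by
  refine quasiIso_map ((TR A).map₂CochainComplex.obj N) (fun K hK => ?_) f
  have h1 : (((TR A).flip.map₂CochainComplex.obj K).obj N).Acyclic := kfl_flip_of_projective N a hN K hK
  exact acyclic_of_iso (mapBifunctorFlipIso N K (TR A) (ComplexShape.up ℤ)) h1

/-- bounded above complexes have bounded above resolutions by projective modules. -/
theorem exists_free (K : CM A) (n : ℤ) [K.IsStrictlyLE n] :
    ∃ (L : CM A) (p : L ⟶ K), L.IsStrictlyLE n ∧ (∀ j, Projective (L.X j)) ∧ QuasiIso p := by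
  obtain ⟨L, p, h1, h2, -, h3⟩ := Groth.Agent.Dcoh.LeftRes.exists_resolution_of_isStrictlyLE
    (goodClass_projective A) K n
  exact ⟨L, p, h1, h2, h3⟩

/-- the maps `k[-j] ⟶ N ⊗ k ⟶ k[-j]` given by a class in degree `j`. -/
theorem exists_split {k : Type u} [Field k] [Algebra A k] (N : CM A) (j : ℤ)
    (hj : ¬ ((((TR A).flip.obj (ModuleCat.of A k)).mapHomologicalComplex (ComplexShape.up ℤ)).obj N).ExactAt j) :
    ∃ (i : (single (ModuleCat.{u} A) (ComplexShape.up ℤ) j).obj (ModuleCat.of A k) ⟶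
        (((TR A).flip.obj (ModuleCat.of A k)).mapHomologicalComplex (ComplexShape.up ℤ)).obj N)
      (r : (((TR A).flip.obj (ModuleCat.of A k)).mapHomologicalComplex (ComplexShape.up ℤ)).obj N ⟶
        (single (ModuleCat.{u} A) (ComplexShape.up ℤ) j).obj (ModuleCat.of A k)), i ≫ r = 𝟙 _ := by
  set E := (((TR A).flip.obj (ModuleCat.of A k)).mapHomologicalComplex (ComplexShape.up ℤ)).obj N with hE
  obtain ⟨f, g, h1, h2, h3⟩ := exists_split_right (k := k) (N.d (j - 1) j).hom (N.d j (j + 1)).hom (by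
      rw [← ModuleCat.hom_comp, N.d_comp_d]; rfl) (by
    intro hex
    apply hj
    rw [exactAt_iff' _ (j - 1) j (j + 1) (by simp) (by simp), ShortComplex.ShortExact.moduleCat_exact_iff_function_exact]
    exact hex)
  have h2' : ∀ l, (ComplexShape.up ℤ).Rel j l → (ModuleCat.ofHom f : ModuleCat.of A k ⟶ E.X j) ≫ E.d j l = 0 := by
    rintro l rfl
    ext1
    exact h2
  have h3' : ∀ l, (ComplexShape.up ℤ).Rel l j → E.d l j ≫ (ModuleCat.ofHom g : E.X j ⟶ ModuleCat.of A k) = 0 := by
    intro l hl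
    obtain rfl : l = j - 1 := by
      have : l + 1 = j := hl
      omega
    ext1
    exact h3
  refine ⟨mkHomFromSingle (K := E) (ModuleCat.ofHom f) h2', mkHomToSingle (K := E) (ModuleCat.ofHom g) h3', ?_⟩
  apply HomologicalComplex.from_single_hom_ext
  rw [comp_f, mkHomFromSingle_f, mkHomToSingle_f]
  have h1' : (ModuleCat.ofHom f : ModuleCat.of A k ⟶ E.X j) ≫ (ModuleCat.ofHom g : E.X j ⟶ ModuleCat.of A k) = 𝟙 _ := by
    ext1
    exact h1
  rw [Category.assoc, reassoc_of% h1']
  simp

/-- **C3.** If `N` and `L` are bounded above complexes of projective modules, `L` a resolution of the `A`-algebra `k`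
which is a field, and `N ⊗ k` is not exact in degree `j`, then `L⟦-j⟧` is a retract of `N ⊗ L` up to homotopy. -/
theorem exists_retract {k : Type u} [Field k] [Algebra A k] (N L : CM A) (a b : ℤ)
    [N.IsStrictlyLE a] [L.IsStrictlyLE b] (hN : ∀ n, Projective (N.X n)) (hL : ∀ n, Projective (L.X n))
    (ε : L ⟶ (single (ModuleCat.{u} A) (ComplexShape.up ℤ) 0).obj (ModuleCat.of A k)) [QuasiIso ε] (j : ℤ)
    (hj : ¬ ((((TR A).flip.obj (ModuleCat.of A k)).mapHomologicalComplex (ComplexShape.up ℤ)).obj N).ExactAt j) :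
    ∃ (i : L⟦-j⟧ ⟶ tens N L) (r : tens N L ⟶ L⟦-j⟧), Nonempty (Homotopy (i ≫ r) (𝟙 _)) := by
  obtain ⟨i₀, r₀, h₀⟩ := exists_split N j hj
  have hQ := isKProjective_tens N L a b hN hL
  have hP : L.IsKProjective := CochainComplex.isKProjective_of_projective _ b
  have ht : QuasiIso (((TR A).map₂CochainComplex.obj N).map ε) := quasiIso_tens N a hN ε
  let e := singleIso (TR A) N (ModuleCat.of A k)
  let t : tens N L ⟶ (((TR A).flip.obj (ModuleCat.of A k)).mapHomologicalComplex (ComplexShape.up ℤ)).obj N :=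
    ((TR A).map₂CochainComplex.obj N).map ε ≫ e.inv
  have ht' : QuasiIso t := inferInstance
  let s : L⟦-j⟧ ⟶ (single (ModuleCat.{u} A) (ComplexShape.up ℤ) j).obj (ModuleCat.of A k) :=
    (shiftFunctor (CochainComplex (ModuleCat.{u} A) ℤ) (-j)).map ε ≫
      (((CochainComplex.singleFunctors (ModuleCat.{u} A)).shiftIso (-j) j 0 (by omega)).app (ModuleCat.of A k)).hom
  have hs : QuasiIso s := inferInstance
  obtain ⟨i, ⟨hi⟩⟩ := K235.KProjLift.exists_lift t (s ≫ i₀)
  obtain ⟨r, ⟨hr⟩⟩ := K235.KProjLift.exists_lift s (t ≫ r₀)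
  refine ⟨i, r, homotopy_of_comp s (i ≫ r) (𝟙 _) ?_⟩
  have c1 : Homotopy ((i ≫ r) ≫ s) (i ≫ t ≫ r₀) :=
    (Homotopy.ofEq (Category.assoc _ _ _)).trans (hr.compLeft i)
  have c2 : Homotopy (i ≫ t ≫ r₀) ((s ≫ i₀) ≫ r₀) :=
    (Homotopy.ofEq (Category.assoc _ _ _).symm).trans (hi.compRight r₀)
  exact (c1.trans c2).trans (Homotopy.ofEq (by rw [Category.assoc, h₀, Category.comp_id, Category.id_comp]))

end Cx

end Groth.Agent.ResProp.EF.K66.Fib
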