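import Groth.Agent.ResProp.EF.K294.Defs
import Groth.Agent.Dcoh.FlatAmp
import Mathlib.RingTheory.Spectrum.Prime.RingHom

/-!
# Non-vanishing of the fibre of a bounded above flat complex (S16912, formal end, F6)

If `K` is a bounded above complex of flat modules, exact in degrees `> 0`, then `K ⊗ M` is exact in degree `0` only
if `H^0(K) ⊗ M = 0`.
-/

set_option autoImplicit false
set_option backward.defeqAttrib.useBackward true
set_option backward.isDefEq.respectTransparency false

universe u

open CategoryTheory CategoryTheory.Limits MonoidalCategory HomologicalComplex TensorProduct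

namespace Groth.Agent.ResProp.EF.K66.NZ

open Groth.Agent.PerfB.RingKFlat Groth.Agent.ResProp.EF.K294

variable {A : Type u} [CommRing A]

/-- exactness in elements -/
lemma exactAt_iff_function (K : CM A) (i j k : ℤ) (hij : i + 1 = j) (hjk : j + 1 = k) :
    K.ExactAt j ↔ Function.Exact (K.d i j).hom (K.d j k).hom := by
  rw [K.exactAt_iff' i j k (by simp; omega) (by simp; omega),
    ShortComplex.ShortExact.moduleCat_exact_iff_function_exact]
  rfl

/-- the cycles of a bounded above complex of flat modules are flat, in the range of exactness. -/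
lemma flat_ker_d (K : CM A) (b : ℤ) [K.IsStrictlyLE b] (hflat : ∀ n, Module.Flat A (K.X n)) (c : ℤ)
    (hex : ∀ i, c < i → K.ExactAt i) (i j : ℤ) (hij : i + 1 = j) (hi : c ≤ i) :
    Module.Flat A (LinearMap.ker (K.d i j).hom) := by
  have key : ∀ n : ℕ, ∀ i j : ℤ, i + 1 = j → c ≤ i → b + 1 - n ≤ i →
      Module.Flat A (LinearMap.ker (K.d i j).hom) := by
    intro n
    induction n with
    | zero =>
      intro i j _ _ h
      have hz : IsZero (K.X i) := K.isZero_of_isStrictlyLE b i (by simp at h; omega)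
      have := ModuleCat.subsingleton_of_isZero hz
      infer_instance
    | succ n ih =>
      intro i j hij hi h
      have h1 := ih j (j + 1) rfl (by omega) (by push_cast at h; omega)
      have h2 := (exactAt_iff_function K i j (j + 1) hij rfl).1 (hex j (by omega))
      let f : K.X i →ₗ[A] LinearMap.ker (K.d j (j + 1)).hom :=
        LinearMap.codRestrict _ (K.d i j).hom (fun x => (h2 _).2 ⟨x, rfl⟩)
      have hf : Function.Surjective f := by
        rintro ⟨x, hx⟩
        obtain ⟨y, hy⟩ := (h2 x).1 hx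
        exact ⟨y, Subtype.ext hy⟩
      have h3 := hflat i
      have h4 := Groth.Agent.Dcoh.FlatAmp.flat_ker f hf
      rwa [LinearMap.ker_codRestrict] at h4
  exact key (b + 1 - i).toNat i j hij hi (by omega)

/-- **(NZ)** the fibre is not exact in degree `0` if a quotient of `H^0` has non-zero fibre. -/
theorem not_exactAt_of_surjective (K : CM A) (b : ℤ) [K.IsStrictlyLE b] (hflat : ∀ n, Module.Flat A (K.X n))
    (hex : ∀ i, 0 < i → K.ExactAt i) (M : ModuleCat.{u} A) {M₀ : Type*} [AddCommGroup M₀] [Module A M₀]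
    (π : LinearMap.ker (K.d 0 1).hom →ₗ[A] M₀) (hπ : Function.Surjective π)
    (hπd : ∀ (y : K.X (-1)) (h : (K.d (-1) 0).hom y ∈ LinearMap.ker (K.d 0 1).hom), π ⟨_, h⟩ = 0)
    (hM : Nontrivial (M₀ ⊗[A] M)) :
    ¬ ((((TR A).flip.obj M).mapHomologicalComplex (ComplexShape.up ℤ)).obj K).ExactAt 0 := by
  intro h
  rw [exactAt_iff_function _ (-1) 0 1 (by simp) (by simp)] at h
  have h' : Function.Exact ((K.d (-1) 0).hom.rTensor M) ((K.d 0 1).hom.rTensor M) := h
  have h2 := (exactAt_iff_function K 0 1 2 (by simp) (by simp)).1 (hex 1 (by simp))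
  -- `K^0 → Z^1`
  let f : K.X 0 →ₗ[A] LinearMap.ker (K.d 1 2).hom :=
    LinearMap.codRestrict _ (K.d 0 1).hom (fun x => (h2 _).2 ⟨x, rfl⟩)
  have hf : Function.Surjective f := by
    rintro ⟨x, hx⟩
    obtain ⟨y, hy⟩ := (h2 x).1 hx
    exact ⟨y, Subtype.ext hy⟩
  have hZ := flat_ker_d K b hflat 0 hex 1 2 (by simp) (by simp)
  let ι := (LinearMap.ker (K.d 0 1).hom).subtype
  have hι : Function.Injective (ι.rTensor M) := by
    have h5 : Function.Injective (ι.lTensor M) :=
      LinearMap.lTensor_injective_of_exact_of_flat f hf ι (Submodule.subtype_injective _) (by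
        intro x
        constructor
        · intro hx
          exact ⟨⟨x, congrArg Subtype.val hx⟩, rfl⟩
        · rintro ⟨y, rfl⟩
          exact Subtype.ext y.2) M
    rwa [← LinearMap.comm_comp_lTensor_comp_comm_eq, LinearMap.coe_comp, LinearMap.coe_comp,
      LinearEquiv.coe_coe, LinearEquiv.coe_coe, EmbeddingLike.comp_injective, EquivLike.injective_comp]
  let δ : K.X (-1) →ₗ[A] LinearMap.ker (K.d 0 1).hom :=
    LinearMap.codRestrict _ (K.d (-1) 0).hom (fun x => by
      have := congrArg (fun g => g.hom x) (K.d_comp_d (-1) 0 1)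
      exact this)
  have hδ : ι ∘ₗ δ = (K.d (-1) 0).hom := rfl
  have hπδ : π ∘ₗ δ = 0 := by
    ext y
    exact hπd y _
  have key : ∀ (z : LinearMap.ker (K.d 0 1).hom) (m : M), (π z) ⊗ₜ[A] m = (0 : M₀ ⊗[A] M) := by
    intro z m
    obtain ⟨y, hy⟩ := (h' (ι.rTensor M (z ⊗ₜ m))).1 (by
      rw [LinearMap.rTensor_tmul, LinearMap.rTensor_tmul]
      have : (K.d 0 1).hom (ι z) = 0 := z.2
      rw [this, TensorProduct.zero_tmul])
    rw [← hδ, LinearMap.rTensor_comp_apply] at hy
    have hy' := hι hy
    have := congrArg (π.rTensor M) hy'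
    rw [← LinearMap.rTensor_comp_apply, hπδ, LinearMap.rTensor_zero, LinearMap.rTensor_tmul] at this
    simpa using this.symm
  obtain ⟨x, hx⟩ := exists_ne (0 : M₀ ⊗[A] M)
  apply hx
  induction x using TensorProduct.induction_on with
  | zero => rfl
  | add x y hx' hy' =>
    by_cases h1 : x = 0
    · by_cases h2 : y = 0
      · rw [h1, h2, add_zero]
      · exact absurd (hy' h2) h2
    · exact absurd (hx' h1) h1
  | tmul x m =>
    obtain ⟨z, rfl⟩ := hπ x
    exact key z m

/-- the projection of the cocycles to the homology, in elements -/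
theorem exists_homologyProj (K : CM A) (i j k : ℤ) (_hij : i + 1 = j) (hjk : j + 1 = k) :
    ∃ π : LinearMap.ker (K.d j k).hom →ₗ[A] K.homology j, Function.Surjective π ∧
      ∀ (y : K.X i) (h : (K.d i j).hom y ∈ LinearMap.ker (K.d j k).hom), π ⟨_, h⟩ = 0 := by
  let l : ModuleCat.of A (LinearMap.ker (K.d j k).hom) ⟶ K.cycles j :=
    K.liftCycles (ModuleCat.ofHom (LinearMap.ker (K.d j k).hom).subtype) k (by simp; omega) (by
      ext x
      exact x.2)
  have hl : l ≫ K.iCycles j = ModuleCat.ofHom (LinearMap.ker (K.d j k).hom).subtype := K.liftCycles_i _ _ _ _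
  refine ⟨(l ≫ K.homologyπ j).hom, ?_, ?_⟩
  · intro x
    obtain ⟨c, rfl⟩ := (ModuleCat.epi_iff_surjective (K.homologyπ j)).1 inferInstance x
    have hc : (K.iCycles j).hom c ∈ LinearMap.ker (K.d j k).hom := by
      have := congrArg (fun g => g.hom c) (K.iCycles_d j k)
      exact this
    refine ⟨⟨(K.iCycles j).hom c, hc⟩, ?_⟩
    have h1 : l.hom ⟨(K.iCycles j).hom c, hc⟩ = c := by
      apply (ModuleCat.mono_iff_injective (K.iCycles j)).1 inferInstance
      exact congrArg (fun g => g.hom ⟨(K.iCycles j).hom c, hc⟩) hl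
    rw [ModuleCat.hom_comp, LinearMap.comp_apply, h1]
  · intro y h
    have h1 : l.hom ⟨(K.d i j).hom y, h⟩ = (K.toCycles i j).hom y := by
      apply (ModuleCat.mono_iff_injective (K.iCycles j)).1 inferInstance
      have h2 := congrArg (fun g => g.hom ⟨(K.d i j).hom y, h⟩) hl
      have h3 := congrArg (fun g => g.hom y) (K.toCycles_i i j)
      exact h2.trans h3.symm
    rw [ModuleCat.hom_comp, LinearMap.comp_apply, h1]
    exact congrArg (fun g => g.hom y) (K.toCycles_comp_homologyπ i j)

/-- **(NZ)** in terms of `H^0(K)`. -/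
theorem not_exactAt_of_homology (K : CM A) (b : ℤ) [K.IsStrictlyLE b] (hflat : ∀ n, Module.Flat A (K.X n))
    (hex : ∀ i, 0 < i → K.ExactAt i) (M : ModuleCat.{u} A) {M₀ : Type*} [AddCommGroup M₀] [Module A M₀]
    (π : K.homology 0 →ₗ[A] M₀) (hπ : Function.Surjective π) (hM : Nontrivial (M₀ ⊗[A] M)) :
    ¬ ((((TR A).flip.obj M).mapHomologicalComplex (ComplexShape.up ℤ)).obj K).ExactAt 0 := by
  obtain ⟨p, hp, hp0⟩ := exists_homologyProj K (-1) 0 1 (by simp) (by simp)
  refine not_exactAt_of_surjective K b hflat hex M (π ∘ₗ p) (hπ.comp hp) (fun y h => ?_) hM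
  rw [LinearMap.comp_apply, hp0 y h, map_zero]

/-- **(NZ)** at a prime in the image of `Spec D`, if `H^0(K)` maps onto `D`. -/
theorem not_exactAt_residueField (K : CM A) (b : ℤ) [K.IsStrictlyLE b] (hflat : ∀ n, Module.Flat A (K.X n))
    (hex : ∀ i, 0 < i → K.ExactAt i) {D : Type*} [CommRing D] [Algebra A D]
    (π : K.homology 0 →ₗ[A] D) (hπ : Function.Surjective π) (q : PrimeSpectrum A)
    (hq : q ∈ Set.range (PrimeSpectrum.comap (algebraMap A D))) :
    ¬ ((((TR A).flip.obj (ModuleCat.of A q.asIdeal.ResidueField)).mapHomologicalComplex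
      (ComplexShape.up ℤ)).obj K).ExactAt 0 := by
  refine not_exactAt_of_homology K b hflat hex _ π hπ ?_
  have h1 := (PrimeSpectrum.nontrivial_iff_mem_rangeComap (S := D) q).2 hq
  exact (TensorProduct.comm A D q.asIdeal.ResidueField).toEquiv.nontrivial

/-- the same for any complex connected to `K'` by a quasi-isomorphism (in either direction, on `H^0`). -/
theorem not_exactAt_residueField' (K K' : CM A) (b : ℤ) [K.IsStrictlyLE b] (hflat : ∀ n, Module.Flat A (K.X n))
    (hex : ∀ i, 0 < i → K.ExactAt i) (e : K.homology 0 ≅ K'.homology 0) {D : Type*} [CommRing D] [Algebra A D]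
    (π : K'.homology 0 →ₗ[A] D) (hπ : Function.Surjective π) (q : PrimeSpectrum A)
    (hq : q ∈ Set.range (PrimeSpectrum.comap (algebraMap A D))) :
    ¬ ((((TR A).flip.obj (ModuleCat.of A q.asIdeal.ResidueField)).mapHomologicalComplex
      (ComplexShape.up ℤ)).obj K).ExactAt 0 :=
  not_exactAt_residueField K b hflat hex (π ∘ₗ e.toLinearEquiv.toLinearMap)
    (hπ.comp e.toLinearEquiv.surjective) q hq

end Groth.Agent.ResProp.EF.K66.NZ
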