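import Groth.Agent.ResProp.EF.K66.NZTop
import Groth.Agent.ResProp.EF.Arch

/-!
# Non-vanishing of the fibre at `x` of a flat model of the kernel datum (S16912, seam of `Arch.KernelDatum.top` and C3)
-/

set_option autoImplicit false

universe u

open CategoryTheory CategoryTheory.Limits MonoidalCategory HomologicalComplex Opposite

namespace Groth.Agent.ResProp.EF.K66.NZ

open Groth.Agent.PerfB.RingKFlat K294 K784.BC K784.PM K741.RP EF56 Grp Arch

variable {k : Type u} [CommRing k] {A : NFᵒᵖ ⥤ CommRingCat.{u}} [GRF k A]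
  {x : PrimeSpectrum (A.obj (op ⟨0⟩))} {c : CoverDatum k A x}

/-- the chart complex of a kernel datum vanishes in degrees `> 0` -/
theorem subsingleton_chartCx (KD : KernelDatum c) (n : ℤ) (hn : n < -KD.e ∨ 0 < n) :
    Subsingleton ((chartCx KD.K KD.d KD.dd).X n) := KD.bdd n hn

/-- the fibre at `x` of a bounded above flat model of the kernel is not exact in degree `0` -/
theorem not_exactAt_of_kernelDatum (KD : KernelDatum c) (K : CM (A.obj (op ⟨0⟩))) (b : ℤ) [K.IsStrictlyLE b]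
    (hflat : ∀ n, Module.Flat (A.obj (op ⟨0⟩)) (K.X n)) (hex : ∀ i, 0 < i → K.ExactAt i)
    (e : K.homology 0 ≅ (chartCx KD.K KD.d KD.dd).homology 0) :
    ¬ ((((TR (A.obj (op ⟨0⟩))).flip.obj (ModuleCat.of (A.obj (op ⟨0⟩)) x.asIdeal.ResidueField)).mapHomologicalComplex
      (ComplexShape.up ℤ)).obj K).ExactAt 0 := by
  have := subsingleton_chartCx KD 1 (Or.inr (by simp))
  refine not_exactAt_of_top K (chartCx KD.K KD.d KD.dd) b hflat hex e x.asIdeal.ResidueField ?_
  have h1 : (chartCx KD.K KD.d KD.dd).d (-1) (-1 + 1) = ModuleCat.ofHom ((KD.d (-1)).f ⟨0⟩) :=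
    CochainComplex.of_d (fun n => ModuleCat.of (A.obj (op ⟨0⟩)) ((KD.K n).M.obj ⟨0⟩))
      (fun n => ModuleCat.ofHom ((KD.d n).f ⟨0⟩)) (-1)
  intro h
  apply KD.top
  have h2 : ((chartCx KD.K KD.d KD.dd).d (-1) (-1 + 1)).hom = (KD.d (-1)).f ⟨0⟩ := by rw [h1]; rfl
  rw [← h2]
  exact h

end Groth.Agent.ResProp.EF.K66.NZ
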