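import Groth.Agent.ResProp.EF.K66.NZ

/-!
# Non-vanishing of the fibre from the top differential (S16912, formal end, F6)
-/

set_option autoImplicit false
set_option backward.defeqAttrib.useBackward true
set_option backward.isDefEq.respectTransparency false

universe u

open CategoryTheory CategoryTheory.Limits MonoidalCategory HomologicalComplex TensorProduct

namespace Groth.Agent.ResProp.EF.K66.NZ

open Groth.Agent.PerfB.RingKFlat Groth.Agent.ResProp.EF.K294

variable {A : Type u} [CommRing A]

/-- `M ⊗ H^j(K) ≠ 0` if `K^(j+1) = 0` and `M ⊗ d^(j-1)` is not surjective. -/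
theorem nontrivial_of_top (K : CM A) (i j k : ℤ) (hij : i + 1 = j) (hjk : j + 1 = k) [Subsingleton (K.X k)]
    (M : Type u) [AddCommGroup M] [Module A M] (h : ¬ Function.Surjective ((K.d i j).hom.lTensor M)) :
    Nontrivial ((K.homology j : Type u) ⊗[A] M) := by
  have hd : K.d j k = 0 := by
    ext x
    exact Subsingleton.elim _ _
  have h1 : IsIso (K.homologyι j) := K.isIso_homologyι j k (by simp; omega) hd
  let S : ShortComplex (ModuleCat.{u} A) := ShortComplex.mk (K.d i j) (K.pOpcycles j) (K.d_pOpcycles i j)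
  have hS : S.Exact := S.exact_of_g_is_cokernel (K.opcyclesIsCokernel i j (by simp; omega))
  have hS' : Function.Exact (K.d i j).hom (K.pOpcycles j).hom :=
    (ShortComplex.ShortExact.moduleCat_exact_iff_function_exact S).1 hS
  have hp : Function.Surjective (K.pOpcycles j).hom :=
    (ModuleCat.epi_iff_surjective (K.pOpcycles j)).1 inferInstance
  have h2 := lTensor_exact M hS' hp
  by_contra hcon
  rw [not_nontrivial_iff_subsingleton] at hcon
  have e : (K.homology j : Type u) ⊗[A] M ≃ₗ[A] M ⊗[A] (K.opcycles j : Type u) :=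
    (TensorProduct.comm A _ _).trans (LinearEquiv.lTensor M (asIso (K.homologyι j)).toLinearEquiv)
  have h3 : Subsingleton (M ⊗[A] (K.opcycles j : Type u)) := e.symm.toEquiv.subsingleton
  exact h fun y => (h2 y).1 (Subsingleton.elim _ _)

/-- **(NZ)** for a flat model `K` of a complex `K'` with `K'^1 = 0` and `M ⊗ d^(-1)` not surjective. -/
theorem not_exactAt_of_top (K K' : CM A) (b : ℤ) [K.IsStrictlyLE b] (hflat : ∀ n, Module.Flat A (K.X n))
    (hex : ∀ i, 0 < i → K.ExactAt i) (e : K.homology 0 ≅ K'.homology 0) [Subsingleton (K'.X 1)]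
    (M : Type u) [AddCommGroup M] [Module A M] (h : ¬ Function.Surjective ((K'.d (-1) 0).hom.lTensor M)) :
    ¬ ((((TR A).flip.obj (ModuleCat.of A M)).mapHomologicalComplex (ComplexShape.up ℤ)).obj K).ExactAt 0 :=
  not_exactAt_of_homology K b hflat hex (ModuleCat.of A M) e.toLinearEquiv.toLinearMap
    e.toLinearEquiv.surjective (nontrivial_of_top K' (-1) 0 1 (by simp) (by simp) M h)

end Groth.Agent.ResProp.EF.K66.NZ
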